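import Groth.Prelude.Def_PolLaw
import Mathlib.RingTheory.Spectrum.Prime.Basic
import Mathlib.RingTheory.LocalRing.ResidueField.Ideal
import Mathlib.RingTheory.IntegralDomain
import Mathlib.Algebra.Module.LocalizedModule.Basic
import Mathlib.SetTheory.Cardinal.Basic
import Mathlib.LinearAlgebra.Vandermonde
import Mathlib.LinearAlgebra.Matrix.Adjugate
import Mathlib.Algebra.Module.BigOperators

/-!
# Spanning the degree `d` piece of the divided power algebra by `γ_d`
-/

set_option autoImplicit false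

universe u

open DividedPowerAlgebra Matrix

namespace Groth.Agent.DpSpan70

variable {A M : Type u} [CommRing A] [AddCommGroup M] [Module A M]

/-- The span of the `d`-th divided powers. -/
noncomputable abbrev S (A M : Type u) [CommRing A] [AddCommGroup M] [Module A M] (d : ℕ) :
    Submodule A (DividedPowerAlgebra A M) :=
  Submodule.span A (Set.range (dp A d : M → DividedPowerAlgebra A M))

theorem S_le_gammaPiece (d : ℕ) : S A M d ≤ PolLaw.gammaPiece A M d := by
  refine Submodule.span_le.mpr ?_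
  rintro _ ⟨m, rfl⟩
  exact Submodule.subset_span ⟨1, fun _ => d, fun _ => m, by simp, by simp⟩

/-- Enough residue classes modulo a prime. -/
theorem exists_injective_quotient {R : Type u} [CommRing R] (p : Ideal R) [p.IsPrime] (d : ℕ)
    (h : (d : Cardinal) ≤ Cardinal.mk p.ResidueField) :
    ∃ v : Fin d → R ⧸ p, Function.Injective v := by
  have hκ : (d : Cardinal) ≤ Cardinal.mk (R ⧸ p) := by
    rcases finite_or_infinite (R ⧸ p) with hfin | hinf
    · haveI : p.IsMaximal := Ideal.Quotient.maximal_of_isField p (Finite.isField_of_domain (R ⧸ p))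
      refine h.trans_eq (Cardinal.mk_congr ?_)
      exact (Equiv.ofBijective _ p.bijective_algebraMap_quotient_residueField).symm
    · exact (Cardinal.natCast_lt_aleph0).le.trans (Cardinal.aleph0_le_mk _)
  have hκ' : Cardinal.lift.{u} (Cardinal.mk (Fin d)) ≤ Cardinal.lift.{0} (Cardinal.mk (R ⧸ p)) := by
    simpa using hκ
  obtain ⟨f⟩ := Cardinal.lift_mk_le'.mp hκ'
  exact ⟨f, f.injective⟩

/-- Distinct nonzero residues with a Vandermonde determinant outside the prime. -/
theorem exists_nodes (p : Ideal A) [p.IsPrime] (n : ℕ) (h : ((n + 1 : ℕ) : Cardinal) ≤ Cardinal.mk p.ResidueField) :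
    ∃ c : Fin n → A, (Matrix.of fun i j : Fin n => c i ^ (j.val + 1)).det ∉ p := by
  obtain ⟨v, hv⟩ := exists_injective_quotient p (n + 1) h
  choose r hr using fun i => Ideal.Quotient.mk_surjective (v i)
  refine ⟨fun i => r i.succ - r 0, ?_⟩
  rw [← Ideal.Quotient.eq_zero_iff_mem, RingHom.map_det]
  have hM : (Ideal.Quotient.mk p).mapMatrix (Matrix.of fun i j : Fin n => (r i.succ - r 0) ^ (j.val + 1)) =
      Matrix.of fun i j : Fin n => (v i.succ - v 0) * (Matrix.vandermonde fun i : Fin n => v i.succ - v 0) i j := by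
    ext i j
    simp [RingHom.mapMatrix_apply, hr, pow_succ', Matrix.vandermonde_apply]
  rw [hM, Matrix.det_mul_column]
  refine mul_ne_zero (Finset.prod_ne_zero_iff.mpr fun i _ =>
    sub_ne_zero.mpr fun e => Fin.succ_ne_zero i (hv e)) (Matrix.det_vandermonde_ne_zero_iff.mpr ?_)
  intro i j e
  exact Fin.succ_injective n (hv (sub_left_injective e))

/-- Two-factor reduction. -/
theorem exists_smul_dp_mul_dp (p : Ideal A) [p.IsPrime] {d : ℕ} (hd : (d : Cardinal) ≤ Cardinal.mk p.ResidueField)
    {i j : ℕ} (hij : i + j = d) (x y : M) :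
    ∃ a ∉ p, a • (dp A i x * dp A j y) ∈ S A M d := by
  classical
  have h1 : (1 : A) ∉ p := (Ideal.ne_top_iff_one _).mp (Ideal.IsPrime.ne_top ‹_›)
  rcases Nat.eq_zero_or_pos j with rfl | hj
  · refine ⟨1, h1, ?_⟩
    rw [one_smul, dp_zero, mul_one, show d = i by omega]
    exact Submodule.subset_span ⟨x, rfl⟩
  rcases Nat.eq_zero_or_pos i with rfl | hi
  · refine ⟨1, h1, ?_⟩
    rw [one_smul, dp_zero, one_mul, show d = j by omega]
    exact Submodule.subset_span ⟨y, rfl⟩
  obtain ⟨n, rfl⟩ := Nat.exists_eq_add_of_le' (show 1 ≤ d by omega)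
  obtain ⟨c, hc⟩ := exists_nodes p n hd
  set Mt : Matrix (Fin n) (Fin n) A := Matrix.of fun i j : Fin n => c i ^ (j.val + 1) with hMt
  let W : Fin n → DividedPowerAlgebra A M := fun j => dp A (n - j.val) x * dp A (j.val + 1) y
  have hU : ∀ i : Fin n, ∑ j, Mt i j • W j ∈ S A M (n + 1) := by
    intro i
    have e := DividedPowerAlgebra.dp_add (R := A) (n := n + 1) (x := x) (y := c i • y)
    rw [Finset.Nat.sum_antidiagonal_eq_sum_range_succ_mk, ← Finset.sum_range_reflect,
      Finset.sum_range_succ, Finset.sum_range_succ'] at e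
    simp only [Nat.succ_eq_add_one, Nat.add_sub_cancel, Nat.sub_zero, Nat.sub_self, dp_zero, one_mul, mul_one] at e
    have hmid : ∑ j, Mt i j • W j =
        ∑ k ∈ Finset.range n, dp A (n - k) x * dp A (n + 1 - (n - k)) (c i • y) := by
      rw [← Fin.sum_univ_eq_sum_range (fun k => dp A (n - k) x * dp A (n + 1 - (n - k)) (c i • y))]
      refine Finset.sum_congr rfl fun k _ => ?_
      rw [show n + 1 - (n - k.val) = k.val + 1 by omega, dp_smul, mul_smul_comm]
      rfl
    have e' : ∑ j, Mt i j • W j = dp A (n + 1) (x + c i • y) - dp A (n + 1) x - dp A (n + 1) (c i • y) := by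
      rw [hmid, e]
      have : ∀ k, n + 1 - (k + 1) = n - k := fun k => by omega
      simp only [this]
      abel
    rw [e']
    exact sub_mem (sub_mem (Submodule.subset_span ⟨_, rfl⟩) (Submodule.subset_span ⟨_, rfl⟩))
      (Submodule.subset_span ⟨_, rfl⟩)
  refine ⟨Mt.det, hc, ?_⟩
  let k₀ : Fin n := ⟨j - 1, by omega⟩
  have hW : dp A i x * dp A j y = W k₀ := by
    simp only [W, k₀]
    rw [show n - (j - 1) = i by omega, show j - 1 + 1 = j by omega]
  have key : Mt.det • W k₀ = ∑ i, Matrix.adjugate Mt k₀ i • ∑ j, Mt i j • W j := by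
    simp only [Finset.smul_sum, smul_smul]
    rw [Finset.sum_comm]
    simp only [← Finset.sum_smul, ← Matrix.mul_apply, Matrix.adjugate_mul, Matrix.smul_apply,
      Matrix.one_apply, smul_eq_mul, mul_ite, mul_one, mul_zero, ite_smul, zero_smul,
      Finset.sum_ite_eq, Finset.mem_univ, if_true]
  rw [hW, key]
  exact sum_mem fun i _ => Submodule.smul_mem _ _ (hU i)

/-- Elements killed into a submodule outside each prime lie in it. -/
theorem mem_of_forall_exists_smul {N : Type u} [AddCommGroup N] [Module A N] (P : Submodule A N) (x : N)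
    (h : ∀ p : PrimeSpectrum A, ∃ a ∉ p.asIdeal, a • x ∈ P) : x ∈ P := by
  by_contra hx
  let I : Ideal A := P.comap (LinearMap.toSpanSingleton A N x)
  have hI : I ≠ ⊤ := fun e => hx (by
    have h1 : (1 : A) ∈ I := e ▸ Submodule.mem_top
    simpa [I] using h1)
  obtain ⟨m, hm, hle⟩ := Ideal.exists_le_maximal I hI
  obtain ⟨a, ha, hax⟩ := h ⟨m, hm.isPrime⟩
  exact ha (hle (by simpa [I] using hax))

theorem exists_smul_prod_mem (p : Ideal A) [p.IsPrime] :
    ∀ {n : ℕ} (d : ℕ) (_ : (d : Cardinal) ≤ Cardinal.mk p.ResidueField) (k : Fin n → ℕ) (m : Fin n → M),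
      (∑ i, k i) = d → ∃ a ∉ p, a • (∏ i, dp A (k i) (m i)) ∈ S A M d := by
  intro n
  induction n with
  | zero =>
    intro d _ k m hk
    refine ⟨1, (Ideal.ne_top_iff_one _).mp (Ideal.IsPrime.ne_top ‹_›), ?_⟩
    simp at hk
    subst hk
    rw [one_smul, Finset.univ_eq_empty, Finset.prod_empty]
    exact Submodule.subset_span ⟨0, dp_zero⟩
  | succ n ih =>
    intro d hd k m hk
    rw [Fin.sum_univ_succ] at hk
    have hle : ((∑ i : Fin n, k i.succ : ℕ) : Cardinal) ≤ Cardinal.mk p.ResidueField :=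
      le_trans (by exact_mod_cast (by omega : (∑ i : Fin n, k i.succ) ≤ d)) hd
    obtain ⟨a, ha, hmem⟩ := ih _ hle (fun i => k i.succ) (fun i => m i.succ) rfl
    rw [Fin.prod_univ_succ]
    suffices h : ∃ b ∉ p, b • (dp A (k 0) (m 0) * (a • ∏ i : Fin n, dp A (k i.succ) (m i.succ))) ∈ S A M d by
      obtain ⟨b, hb, hb'⟩ := h
      refine ⟨b * a, fun e => (Ideal.IsPrime.mem_or_mem ‹_› e).elim hb ha, ?_⟩
      rwa [mul_smul, ← mul_smul_comm]
    generalize (a • ∏ i : Fin n, dp A (k i.succ) (m i.succ)) = w at hmem ⊢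
    induction hmem using Submodule.span_induction with
    | mem z hz =>
      obtain ⟨y, rfl⟩ := hz
      exact exists_smul_dp_mul_dp p hd hk _ y
    | zero => exact ⟨1, (Ideal.ne_top_iff_one _).mp (Ideal.IsPrime.ne_top ‹_›), by simp⟩
    | add y z _ _ hy hz =>
      obtain ⟨b, hb, hby⟩ := hy
      obtain ⟨c, hc, hcz⟩ := hz
      refine ⟨b * c, fun e => (Ideal.IsPrime.mem_or_mem ‹_› e).elim hb hc, ?_⟩
      rw [mul_add, smul_add, mul_comm b c, mul_smul c b, mul_comm c b, mul_smul b c]
      exact add_mem (Submodule.smul_mem _ _ hby) (Submodule.smul_mem _ _ hcz)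
    | smul r y _ hy =>
      obtain ⟨b, hb, hby⟩ := hy
      exact ⟨b, hb, by rw [mul_smul_comm, smul_comm]; exact Submodule.smul_mem _ _ hby⟩

theorem exists_smul_prod_mem_of_cyclic (p : Ideal A) [p.IsPrime]
    (x₀ : LocalizedModule p.primeCompl M) (hx₀ : Submodule.span (Localization.AtPrime p) {x₀} = ⊤)
    {n : ℕ} (d : ℕ) (k : Fin n → ℕ) (m : Fin n → M) (hk : (∑ i, k i) = d) :
    ∃ a ∉ p, a • (∏ i, dp A (k i) (m i)) ∈ S A M d := by
  classical
  induction x₀ using LocalizedModule.induction_on with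
  | h m₀ s₀ =>
    have hrep : ∀ i, ∃ s ∉ p, ∃ r : A, s • m i = r • m₀ := by
      intro i
      have h1 : LocalizedModule.mk (m i) 1 ∈ Submodule.span (Localization.AtPrime p)
          {LocalizedModule.mk m₀ s₀} := hx₀ ▸ Submodule.mem_top
      obtain ⟨q, hq⟩ := Submodule.mem_span_singleton.mp h1
      induction q using Localization.induction_on with
      | H rs =>
        obtain ⟨r, s⟩ := rs
        rw [LocalizedModule.mk_smul_mk, LocalizedModule.mk_eq] at hq
        obtain ⟨u, hu⟩ := hq
        simp only [one_smul, Submonoid.smul_def, Submonoid.coe_mul, smul_smul] at hu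
        exact ⟨(u : A) * ((s : A) * s₀),
          fun e => (Ideal.IsPrime.mem_or_mem ‹_› e).elim u.2 fun e' =>
            (Ideal.IsPrime.mem_or_mem ‹_› e').elim s.2 s₀.2,
          (u : A) * r, hu.symm⟩
    choose s hs r hr using hrep
    refine ⟨∏ i, s i ^ k i, ?_, ?_⟩
    · intro e
      obtain ⟨i, -, hi⟩ := Ideal.IsPrime.prod_mem_iff.mp e
      exact hs i (Ideal.IsPrime.mem_of_pow_mem ‹_› _ hi)
    · rw [← Finset.prod_smul, Finset.prod_congr rfl
        (fun i _ => (by rw [← dp_smul, hr, dp_smul] : (s i ^ k i) • dp A (k i) (m i) = (r i ^ k i) • dp A (k i) m₀)),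
        Finset.prod_smul, prod_dp, hk]
      refine Submodule.smul_mem _ _ ?_
      rw [← nsmul_eq_mul]
      exact Submodule.smul_of_tower_mem _ _ (Submodule.subset_span ⟨m₀, rfl⟩)

theorem span_eq_gammaPiece (d : ℕ)
    (h : ∀ p : PrimeSpectrum A, (d : Cardinal) ≤ Cardinal.mk p.asIdeal.ResidueField ∨
      ∃ x : LocalizedModule p.asIdeal.primeCompl M, Submodule.span (Localization.AtPrime p.asIdeal) {x} = ⊤) :
    S A M d = PolLaw.gammaPiece A M d := by
  refine le_antisymm (S_le_gammaPiece d) (Submodule.span_le.mpr ?_)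
  rintro _ ⟨n, k, m, hk, rfl⟩
  refine mem_of_forall_exists_smul _ _ fun p => ?_
  rcases h p with h1 | ⟨x, hx⟩
  · exact exists_smul_prod_mem p.asIdeal d h1 k m hk
  · exact exists_smul_prod_mem_of_cyclic p.asIdeal x hx d k m hk

end Groth.Agent.DpSpan70
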