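import Groth.Agent.DpSpan70.Basic
import Mathlib.Algebra.Polynomial.BigOperators
import Mathlib.Algebra.MvPolynomial.Basic
import Mathlib.RingTheory.Ideal.Quotient.Operations
import Mathlib.FieldTheory.Finite.Basic
import Mathlib.Algebra.Module.Torsion.Basic
import Mathlib.RingTheory.Localization.Finiteness
import Mathlib.RingTheory.Nakayama
import Mathlib.RingTheory.Finiteness.Basic
import Mathlib.LinearAlgebra.Dimension.Finite
import Mathlib.LinearAlgebra.FiniteDimensional.Basic

/-!
# A functional on the degree `d` piece killing all `γ_d`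
-/

set_option autoImplicit false
set_option linter.style.haveILetI false

universe u

open DividedPowerAlgebra

noncomputable section

namespace Groth.Agent.DpSpan70

section esymm

open Polynomial

variable {E : Type*} [CommRing E] {σ : Type*}

/-- The generating polynomial `∏ (1 + x i T)`. -/
def gen (s : Finset σ) (x : σ → E) : E[X] := ∏ i ∈ s, (1 + C (x i) * Polynomial.X)

theorem gen_coeff_zero (s : Finset σ) (x : σ → E) : (gen s x).coeff 0 = 1 := by
  simp [gen, Polynomial.coeff_zero_prod]

theorem gen_coeff_mul (s : Finset σ) (x : σ → E) (hx : ∀ i, x i * x i = 0) :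
    ∀ n p : ℕ, (gen s x).coeff n * (gen s x).coeff p = (n + p).choose n • (gen s x).coeff (n + p) := by
  classical
  induction s using Finset.induction with
  | empty =>
    intro n p
    rcases n with _ | n
    · simp [gen]
    · simp [gen, coeff_one, Nat.add_right_comm n 1 p]
  | insert i s hi ih =>
    have h1 : ∀ n, (gen (insert i s) x).coeff (n + 1) =
        (gen s x).coeff (n + 1) + x i * (gen s x).coeff n := fun n => by
      rw [gen, Finset.prod_insert hi, add_mul, one_mul, mul_assoc, coeff_add, coeff_C_mul, coeff_X_mul]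
      rfl
    intro n p
    rcases n with _ | n
    · simp [gen_coeff_zero]
    rcases p with _ | p
    · simp [gen_coeff_zero]
    rw [h1, h1, show n + 1 + (p + 1) = (n + 1 + p) + 1 by ring, h1]
    have e1 := ih (n + 1) (p + 1)
    have e2 := ih n (p + 1)
    have e3 := ih (n + 1) p
    rw [show n + 1 + (p + 1) = n + 1 + p + 1 by ring] at e1
    rw [show n + (p + 1) = n + 1 + p by ring] at e2
    have hc : (n + 1 + p + 1).choose (n + 1) = (n + 1 + p).choose n + (n + 1 + p).choose (n + 1) :=
      Nat.choose_succ_succ' _ _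
    rw [smul_add]
    simp only [nsmul_eq_mul] at e1 e2 e3 ⊢
    rw [hc, Nat.cast_add] at e1 ⊢
    linear_combination e1 + x i * e2 + x i * e3 + (gen s x).coeff n * (gen s x).coeff p * hx i

theorem gen_coeff_card (s : Finset σ) (x : σ → E) :
    (gen s x).coeff s.card = ∏ i ∈ s, x i ∧ ∀ n, s.card < n → (gen s x).coeff n = 0 := by
  classical
  induction s using Finset.induction with
  | empty => exact ⟨by simp [gen], fun n hn => by simp [gen, coeff_one]; intro h; subst h; simp at hn⟩
  | insert i s hi ih =>
    have h1 : ∀ n, (gen (insert i s) x).coeff (n + 1) =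
        (gen s x).coeff (n + 1) + x i * (gen s x).coeff n := fun n => by
      rw [gen, Finset.prod_insert hi, add_mul, one_mul, mul_assoc, coeff_add, coeff_C_mul, coeff_X_mul]
      rfl
    rw [Finset.card_insert_of_notMem hi, Finset.prod_insert hi]
    refine ⟨?_, fun n hn => ?_⟩
    · rw [h1, ih.1, ih.2 _ (Nat.lt_succ_self _), zero_add]
    · obtain ⟨m, rfl⟩ := Nat.exists_eq_add_of_le' (show 1 ≤ n by omega)
      rw [h1, ih.2 _ (by omega), ih.2 _ (by omega), mul_zero, add_zero]

theorem gen_congr_subset [Fintype σ] (s : Finset σ) (x : σ → E) (h : ∀ i ∉ s, x i = 0) :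
    gen Finset.univ x = gen s x :=
  (Finset.prod_subset (Finset.subset_univ s) fun i _ hi => by simp [h i hi]).symm

end esymm

variable (κ : Type u) [Field κ] (i j : ℕ)

/-- Polynomials in square-zero variables. -/
def sqIdeal : Ideal (MvPolynomial (Fin i ⊕ Fin j) κ) :=
  Ideal.span (Set.range fun s => (MvPolynomial.X s : MvPolynomial (Fin i ⊕ Fin j) κ) ^ 2)

/-- The square-zero algebra. -/
abbrev Sq : Type u := MvPolynomial (Fin i ⊕ Fin j) κ ⧸ sqIdeal κ i j

theorem coeff_top_eq_zero {f : MvPolynomial (Fin i ⊕ Fin j) κ} (hf : f ∈ sqIdeal κ i j) :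
    MvPolynomial.coeff (Finsupp.equivFunOnFinite.symm fun _ => 1) f = 0 := by
  suffices ∀ g, MvPolynomial.coeff (Finsupp.equivFunOnFinite.symm fun _ => 1) (g * f) = 0 by
    simpa using this 1
  induction hf using Submodule.span_induction with
  | mem y hy =>
    intro g
    obtain ⟨s, rfl⟩ := hy
    simp only [MvPolynomial.X_pow_eq_monomial, MvPolynomial.coeff_mul_monomial']
    rw [if_neg]
    intro h
    have := h s
    simp at this
  | zero => simp
  | add y z _ _ hy hz => intro g; rw [mul_add, MvPolynomial.coeff_add, hy, hz, add_zero]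
  | smul r y _ hy => intro g; rw [smul_eq_mul, ← mul_assoc]; exact hy _

/-- The coefficient of the top monomial. -/
def topCoeff : Sq κ i j →ₗ[κ] κ :=
  ((sqIdeal κ i j).restrictScalars κ).liftQ
    (MvPolynomial.lcoeff κ (Finsupp.equivFunOnFinite.symm fun _ => 1))
    (fun _ hf => coeff_top_eq_zero κ i j hf) ∘ₗ
    (Submodule.Quotient.restrictScalarsEquiv κ (sqIdeal κ i j)).symm.toLinearMap

theorem topCoeff_prod (c : Fin i ⊕ Fin j → κ) :
    topCoeff κ i j (∏ s, algebraMap κ (Sq κ i j) (c s) * Ideal.Quotient.mk _ (MvPolynomial.X s)) =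
      ∏ s, c s := by
  rw [Finset.prod_mul_distrib, ← map_prod, ← map_prod, ← Algebra.smul_def, map_smul, smul_eq_mul]
  convert mul_one _
  show MvPolynomial.coeff _ (∏ s, (MvPolynomial.X s : MvPolynomial (Fin i ⊕ Fin j) κ)) = 1
  rw [show (∏ s, (MvPolynomial.X s : MvPolynomial (Fin i ⊕ Fin j) κ)) =
    MvPolynomial.monomial (∑ s, Finsupp.single s 1) 1 from (MvPolynomial.monomial_sum_one _ _).symm,
    MvPolynomial.coeff_monomial, if_pos]
  ext s
  rcases s with s | s <;> simp [Finsupp.single_apply, Finset.filter_eq']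

/-- The variables scaled by the two coordinates. -/
def xvec (v : κ × κ) : Fin i ⊕ Fin j → Sq κ i j := fun s =>
  algebraMap κ (Sq κ i j) (Sum.elim (fun _ => v.1) (fun _ => v.2) s) * Ideal.Quotient.mk _ (MvPolynomial.X s)

theorem xvec_mul (v w : κ × κ) (s : Fin i ⊕ Fin j) : xvec κ i j v s * xvec κ i j w s = 0 := by
  unfold xvec
  rw [mul_mul_mul_comm, ← map_mul (Ideal.Quotient.mk _), ← pow_two,
    Ideal.Quotient.eq_zero_iff_mem.mpr
      (show (MvPolynomial.X s : MvPolynomial (Fin i ⊕ Fin j) κ) ^ 2 ∈ sqIdeal κ i j from Ideal.subset_span ⟨s, rfl⟩), mul_zero]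

variable {A M : Type u} [CommRing A] [AddCommGroup M] [Module A M] [Algebra A κ]
  (f : M →ₗ[A] κ × κ)

open Polynomial in
/-- The divided power map to the square-zero algebra. -/
def toSq : DividedPowerAlgebra A M →ₐ[A] Sq κ i j :=
  DividedPowerAlgebra.lift' (f := fun nm => (gen Finset.univ (xvec κ i j (f nm.2))).coeff nm.1)
    (fun m => gen_coeff_zero _ _)
    (fun n r m => by
      have hx : xvec κ i j (f (r • m)) = fun s => algebraMap A (Sq κ i j) r * xvec κ i j (f m) s := by
        funext s
        rw [map_smul, xvec, xvec, IsScalarTower.algebraMap_apply A κ (Sq κ i j), ← mul_assoc, ← map_mul]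
        rcases s with s | s <;> simp [Algebra.smul_def]
      dsimp only
      rw [hx, Algebra.smul_def, map_pow]
      have : gen Finset.univ (fun s => algebraMap A (Sq κ i j) r * xvec κ i j (f m) s) =
          (gen Finset.univ (xvec κ i j (f m))).comp (C (algebraMap A (Sq κ i j) r) * Polynomial.X) := by
        rw [gen, gen, prod_comp]
        refine Finset.prod_congr rfl fun s _ => ?_
        simp only [add_comp, one_comp, mul_comp, C_comp, X_comp, map_mul]
        ring
      rw [this, comp_C_mul_X_coeff, mul_comm])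
    (fun n p m => gen_coeff_mul _ _ (fun s => xvec_mul κ i j _ _ s) n p)
    (fun n u v => by
      dsimp only
      have : gen Finset.univ (xvec κ i j (f (u + v))) =
          gen Finset.univ (xvec κ i j (f u)) * gen Finset.univ (xvec κ i j (f v)) := by
        rw [gen, gen, gen, ← Finset.prod_mul_distrib]
        refine Finset.prod_congr rfl fun s _ => ?_
        have e : xvec κ i j (f (u + v)) s = xvec κ i j (f u) s + xvec κ i j (f v) s := by
          rw [map_add, xvec, xvec, xvec, ← add_mul, ← map_add]
          rcases s with s | s <;> simp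
        rw [e, map_add]
        have h0 : C (xvec κ i j (f u) s) * C (xvec κ i j (f v) s) = 0 := by
          rw [← map_mul, xvec_mul, map_zero]
        linear_combination (-(Polynomial.X : (Sq κ i j)[X]) ^ 2) * h0
      rw [this, coeff_mul])

theorem toSq_dp (n : ℕ) (m : M) :
    toSq κ i j f (dp A n m) = (gen Finset.univ (xvec κ i j (f m))).coeff n := by
  exact DividedPowerAlgebra.lift'_apply_dp _ _ _ _ n m

theorem topCoeff_toSq_dp (m : M) :
    topCoeff κ i j (toSq κ i j f (dp A (i + j) m)) = (f m).1 ^ i * (f m).2 ^ j := by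
  have hcard : (Finset.univ : Finset (Fin i ⊕ Fin j)).card = i + j := by simp
  rw [toSq_dp, ← hcard, (gen_coeff_card _ _).1]
  refine (topCoeff_prod κ i j _).trans ?_
  simp [Fintype.prod_sum_type]

theorem topCoeff_toSq_mul_dp {m₁ m₂ : M} (h1 : f m₁ = (1, 0)) (h2 : f m₂ = (0, 1)) :
    topCoeff κ i j (toSq κ i j f (dp A i m₁ * dp A j m₂)) = 1 ∧
      ∀ n p : ℕ, j < p → toSq κ i j f (dp A n m₁ * dp A p m₂) = 0 := by
  classical
  have e1 : gen Finset.univ (xvec κ i j (f m₁)) =
      gen (Finset.univ.map Function.Embedding.inl) (xvec κ i j (f m₁)) :=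
    gen_congr_subset _ _ fun s hs => by
      rcases s with s | s
      · simp at hs
      · simp [xvec, h1]
  have e2 : gen Finset.univ (xvec κ i j (f m₂)) =
      gen (Finset.univ.map Function.Embedding.inr) (xvec κ i j (f m₂)) :=
    gen_congr_subset _ _ fun s hs => by
      rcases s with s | s
      · simp [xvec, h2]
      · simp at hs
  refine ⟨?_, fun n p hp => ?_⟩
  · have c1 := (gen_coeff_card (Finset.univ.map Function.Embedding.inl) (xvec κ i j (f m₁))).1
    have c2 := (gen_coeff_card (Finset.univ.map Function.Embedding.inr) (xvec κ i j (f m₂))).1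
    rw [Finset.card_map, Finset.card_univ, Fintype.card_fin] at c1 c2
    rw [map_mul, toSq_dp, toSq_dp, e1, e2, c1, c2]
    have hp := topCoeff_prod κ i j (fun _ => (1 : κ))
    rw [Finset.prod_const_one, Fintype.prod_sum_type] at hp
    simpa [xvec, h1, h2, Finset.prod_map] using hp
  · rw [map_mul, toSq_dp, toSq_dp, e2, (gen_coeff_card _ _).2 p (by simpa using hp), mul_zero]

end Groth.Agent.DpSpan70

namespace Groth.Agent.DpSpan70

variable {A M : Type u} [CommRing A] [AddCommGroup M] [Module A M]

theorem span_ne_of_small (κ : Type u) [Field κ] [Fintype κ] [Algebra A κ] (f : M →ₗ[A] κ × κ)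
    (hf : Function.Surjective f) (d : ℕ) (hd : Fintype.card κ < d) :
    S A M d ≠ PolLaw.gammaPiece A M d := by
  intro h
  have hq : 1 < Fintype.card κ := Fintype.one_lt_card
  obtain ⟨e, he⟩ := Nat.exists_eq_add_of_lt hd
  set q := Fintype.card κ with hqd
  obtain ⟨m₁, h1⟩ := hf (1, 0)
  obtain ⟨m₂, h2⟩ := hf (0, 1)
  let L : DividedPowerAlgebra A M →ₗ[A] κ :=
    ((topCoeff κ 1 (d - 1)).restrictScalars A).comp (toSq κ 1 (d - 1) f).toLinearMap -
      ((topCoeff κ q (d - q)).restrictScalars A).comp (toSq κ q (d - q) f).toLinearMap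
  have hS : S A M d ≤ LinearMap.ker L := by
    refine Submodule.span_le.mpr ?_
    rintro _ ⟨m, rfl⟩
    have a1 := topCoeff_toSq_dp κ 1 (d - 1) f m
    have a2 := topCoeff_toSq_dp κ q (d - q) f m
    rw [show 1 + (d - 1) = d by omega] at a1
    rw [show q + (d - q) = d by omega] at a2
    simp only [SetLike.mem_coe, LinearMap.mem_ker, L, LinearMap.sub_apply, LinearMap.comp_apply,
      AlgHom.toLinearMap_apply, LinearMap.restrictScalars_apply, a1, a2]
    rw [hqd, FiniteField.pow_card, pow_one, sub_eq_zero]
    congr 1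
    rcases eq_or_ne (f m).2 0 with h0 | h0
    · rw [h0, zero_pow (by omega), zero_pow (by omega)]
    · rw [show d - 1 = (d - Fintype.card κ) + (Fintype.card κ - 1) by omega, pow_add,
        FiniteField.pow_card_sub_one_eq_one _ h0, mul_one]
  have hmem : dp A 1 m₁ * dp A (d - 1) m₂ ∈ S A M d := by
    rw [h]
    refine Submodule.subset_span ⟨2, ![1, d - 1], ![m₁, m₂], ?_, by simp [Fin.prod_univ_two]⟩
    simp [Fin.sum_univ_two]; omega
  have := hS hmem
  simp only [LinearMap.mem_ker, L, LinearMap.sub_apply, LinearMap.comp_apply,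
    AlgHom.toLinearMap_apply, LinearMap.restrictScalars_apply,
    (topCoeff_toSq_mul_dp κ 1 (d - 1) f h1 h2).1,
    (topCoeff_toSq_mul_dp κ q (d - q) f h1 h2).2 1 (d - 1) (by omega), map_zero, sub_zero] at this
  exact one_ne_zero this

theorem card_or_cyclic_of_span_eq [Module.Finite A M] (d : ℕ)
    (h : S A M d = PolLaw.gammaPiece A M d) (p : PrimeSpectrum A) :
    (d : Cardinal) ≤ Cardinal.mk p.asIdeal.ResidueField ∨
      ∃ x : LocalizedModule p.asIdeal.primeCompl M, Submodule.span (Localization.AtPrime p.asIdeal) {x} = ⊤ := by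
  classical
  refine or_iff_not_imp_left.mpr fun hlt => ?_
  rw [not_le] at hlt
  let R' := Localization.AtPrime p.asIdeal
  let N := LocalizedModule p.asIdeal.primeCompl M
  haveI : Finite p.asIdeal.ResidueField :=
    Cardinal.lt_aleph0_iff_finite.mp (hlt.trans Cardinal.natCast_lt_aleph0)
  haveI : Finite (A ⧸ p.asIdeal) :=
    Finite.of_injective _ p.asIdeal.injective_algebraMap_quotient_residueField
  haveI : p.asIdeal.IsMaximal :=
    Ideal.Quotient.maximal_of_isField _ (Finite.isField_of_domain (A ⧸ p.asIdeal))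
  letI := Ideal.Quotient.field p.asIdeal
  letI := Fintype.ofFinite (A ⧸ p.asIdeal)
  have hcard : Fintype.card (A ⧸ p.asIdeal) < d := by
    have h1 : Cardinal.mk (A ⧸ p.asIdeal) = Cardinal.mk p.asIdeal.ResidueField :=
      Cardinal.mk_congr (Equiv.ofBijective _ p.asIdeal.bijective_algebraMap_quotient_residueField)
    rw [← h1, Cardinal.mk_fintype] at hlt
    exact_mod_cast hlt
  let V := M ⧸ (p.asIdeal • (⊤ : Submodule A M))
  haveI : Module.Finite (A ⧸ p.asIdeal) V := Module.Finite.of_restrictScalars_finite A _ _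
  rcases le_or_gt (Module.finrank (A ⧸ p.asIdeal) V) 1 with hle | hgt
  · obtain ⟨v, hv⟩ := finrank_le_one_iff.mp hle
    obtain ⟨m₀, rfl⟩ := Submodule.Quotient.mk_surjective _ v
    have hsup : (⊤ : Submodule A M) ≤ Submodule.span A {m₀} ⊔ p.asIdeal • (⊤ : Submodule A M) := by
      intro m _
      obtain ⟨c, hc⟩ := hv (Submodule.Quotient.mk m)
      obtain ⟨r, rfl⟩ := Ideal.Quotient.mk_surjective c
      have h2 : (Submodule.Quotient.mk (r • m₀) : V) = Submodule.Quotient.mk m := hc
      rw [Submodule.Quotient.eq] at h2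
      have := sub_mem (Submodule.mem_sup_left (T := p.asIdeal • (⊤ : Submodule A M))
        (Submodule.smul_mem _ r (Submodule.mem_span_singleton_self m₀))) (Submodule.mem_sup_right h2)
      simpa using this
    refine ⟨LocalizedModule.mk m₀ 1, ?_⟩
    haveI : Module.Finite R' N := Module.Finite.of_isLocalizedModule p.asIdeal.primeCompl (Rₚ := R')
      (LocalizedModule.mkLinearMap p.asIdeal.primeCompl M)
    refine top_le_iff.mp (Submodule.le_of_le_smul_of_le_jacobson_bot Module.Finite.fg_top
      (IsLocalRing.maximalIdeal_le_jacobson _) (fun z _ => ?_))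
    induction z using LocalizedModule.induction_on with
    | h m t =>
      have key : ∀ y : M, y ∈ p.asIdeal • (⊤ : Submodule A M) →
          LocalizedModule.mk y 1 ∈ IsLocalRing.maximalIdeal R' • (⊤ : Submodule R' N) := by
        intro y hy
        refine Submodule.smul_induction_on hy (fun r hr x _ => ?_) (fun x y hx hy => ?_)
        · rw [← LocalizedModule.smul'_mk, ← algebraMap_smul R' r (LocalizedModule.mk x 1)]
          refine Submodule.smul_mem_smul ?_ Submodule.mem_top
          rwa [IsLocalization.AtPrime.to_map_mem_maximal_iff R' p.asIdeal]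
        · have : LocalizedModule.mk (x + y) (1 : p.asIdeal.primeCompl) =
              LocalizedModule.mk x 1 + LocalizedModule.mk y 1 :=
            map_add (LocalizedModule.mkLinearMap p.asIdeal.primeCompl M) x y
          rw [this]; exact add_mem hx hy
      obtain ⟨a, ha, b, hb, rfl⟩ := Submodule.mem_sup.mp (hsup (Submodule.mem_top (x := m)))
      obtain ⟨r, rfl⟩ := Submodule.mem_span_singleton.mp ha
      have : LocalizedModule.mk (r • m₀ + b) t =
          Localization.mk r t • LocalizedModule.mk m₀ 1 + Localization.mk 1 t • LocalizedModule.mk b 1 := by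
        rw [LocalizedModule.mk_smul_mk, LocalizedModule.mk_smul_mk, one_smul, mul_one,
          ← sub_eq_zero, LocalizedModule.mk_add_mk, LocalizedModule.mk_eq.mpr]
        · exact sub_self _
        · exact ⟨1, by simp only [one_smul, Submonoid.smul_def, Submonoid.coe_mul, mul_smul, smul_add]⟩
      rw [this]
      exact Submodule.add_mem_sup (Submodule.smul_mem _ _ (Submodule.mem_span_singleton_self _))
        (Submodule.smul_mem _ _ (key b hb))
  · exfalso
    obtain ⟨N', hN'⟩ : ∃ g : V →ₗ[A ⧸ p.asIdeal] (A ⧸ p.asIdeal) × (A ⧸ p.asIdeal), Function.Surjective g := by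
      let b := Module.finBasis (A ⧸ p.asIdeal) V
      refine ⟨(b.coord ⟨0, by omega⟩).prod (b.coord ⟨1, hgt⟩), fun ⟨x, y⟩ =>
        ⟨x • b ⟨0, by omega⟩ + y • b ⟨1, hgt⟩, ?_⟩⟩
      simp [Fin.ext_iff]
    exact span_ne_of_small (A ⧸ p.asIdeal) ((N'.restrictScalars A).comp (Submodule.mkQ _))
      (hN'.comp (Submodule.mkQ_surjective _)) d hcard h

end Groth.Agent.DpSpan70

end
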